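import Groth.Agent.Lib.FrobSplit10.Trace
import Groth.Agent.Lib.FinCov.Split
import Groth.Agent.Lib.Cohom.PushDerived
import Groth.Agent.Lib.Cohom.Compare
import Groth.Agent.Lib.QCoh.Abelian
import Groth.Agent.Lib.Euler.Basic
import Groth.Prelude.Def_Frob
import Groth.Prelude.Def_ClSub2

/-!
# Frobenius cokernels along double covers
-/

universe u

set_option linter.all false
set_option backward.isDefEq.respectTransparency false

open CategoryTheory CategoryTheory.Limits AlgebraicGeometry Opposite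

noncomputable section

namespace GrothLib.FrobSplit

variable {X Y : Scheme.{u}} (p : ℕ) [hp : Fact p.Prime] [FrobSch.IsCharP X p] [FrobSch.IsCharP Y p]
  (f : Y ⟶ X) [IsFinite f]

/-- The Frobenius of the structure sheaf, pushed forward. -/
abbrev pushUnit : (Scheme.Modules.pushforward f).obj (Coh.structureModule Y) ⟶
    (Scheme.Modules.pushforward f).obj ((Scheme.Modules.pushforward (FrobSch.frob Y p)).obj (Coh.structureModule Y)) :=
  (Scheme.Modules.pushforward f).map (ClSub.unitToPush (FrobSch.frob Y p))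

/-- Push forward commutes with Frobenius. -/
def frobComm : (Scheme.Modules.pushforward (FrobSch.frob X p)).obj ((Scheme.Modules.pushforward f).obj (Coh.structureModule Y)) ≅
    (Scheme.Modules.pushforward f).obj ((Scheme.Modules.pushforward (FrobSch.frob Y p)).obj (Coh.structureModule Y)) :=
  (Scheme.Modules.pushforwardComp f (FrobSch.frob X p)).app _ ≪≫
    (Scheme.Modules.pushforwardCongr (FrobSch.frob_comp p f).symm).app _ ≪≫
    ((Scheme.Modules.pushforwardComp (FrobSch.frob Y p) f).app _).symm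

theorem frobComm_hom_app (U : X.Opens) (s : Γ(Y, f ⁻¹ᵁ U)) :
    ((frobComm p f).hom.app U s : Γ(Y, f ⁻¹ᵁ U)) = s :=
  congr($(Y.presheaf.map_id (op (f ⁻¹ᵁ U))) s)

theorem frobComm_inv_app (U : X.Opens) (s : Γ(Y, f ⁻¹ᵁ U)) :
    ((frobComm p f).inv.app U s : Γ(Y, f ⁻¹ᵁ U)) = s :=
  congr($(Y.presheaf.map_id (op (f ⁻¹ᵁ U))) s)

theorem unit_comm : ClSub.unitToPush f ≫ pushUnit p f =
    ClSub.unitToPush (FrobSch.frob X p) ≫
      (Scheme.Modules.pushforward (FrobSch.frob X p)).map (ClSub.unitToPush f) ≫ (frobComm p f).hom := by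
  refine Scheme.Modules.hom_ext _ _ fun U => ?_
  ext s
  let t : X.presheaf.obj (op U) := s
  have key : ∀ t : X.presheaf.obj (op U),
      ((f.app U t : Γ(Y, f ⁻¹ᵁ U)) ^ p) = ((frobComm p f).hom.app U (f.app U (t ^ p)) : Γ(Y, f ⁻¹ᵁ U)) :=
    fun t => Eq.trans (map_pow (f.app U).hom t p).symm (frobComm_hom_app p f U _).symm
  exact key t

variable (h2 : FlatMod.IsFinLocFreeOfRank 2 ((Scheme.Modules.pushforward f).obj (Coh.structureModule Y)))

/-- The trace of the double cover. -/
def trace : (Scheme.Modules.pushforward f).obj (Coh.structureModule Y) ⟶ Coh.structureModule X :=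
  FinCov.traceHom (RelSpec.QCAlg.directImage f) (FinCov.isFinLocFree_of_rank h2)

theorem unit_trace : ClSub.unitToPush f ≫ trace f h2 = (2 : ℕ) • 𝟙 (Coh.structureModule X) :=
  FinCov.strMod_comp_trace (RelSpec.QCAlg.directImage f) h2
    (FinCov.isTrace_traceHom _ (FinCov.isFinLocFree_of_rank h2))

omit [FrobSch.IsCharP Y p] [IsFinite f] in
theorem half_two (hodd : p ≠ 2) (U : X.Opens) : ((((p + 1) / 2 : ℕ) * 2 : ℕ) : Γ(X, U)) = 1 := by
  obtain ⟨m, hm⟩ := hp.out.odd_of_ne_two hodd
  rw [show (p + 1) / 2 * 2 = p + 1 by omega, Nat.cast_add, FrobSch.natCast_eq_zero_app X p U, zero_add,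
    Nat.cast_one]

/-- The trace on sections, as a function of functions. -/
def trSec (U : X.Opens) (a : Γ(Y, f ⁻¹ᵁ U)) : Γ(X, U) :=
  FinCov.T (RelSpec.QCAlg.directImage f) (FinCov.isFinLocFree_of_rank h2) U a

theorem trace_app (U : X.Opens) (a : Γ(Y, f ⁻¹ᵁ U)) :
    (trace f h2).app U a = trSec f h2 U a := rfl

include h2 in
theorem trace_pow (hodd : p ≠ 2) (U : X.Opens) (a : Γ(Y, f ⁻¹ᵁ U)) :
    trSec f h2 U (a ^ p) = trSec f h2 U a ^ p := by
  let A := RelSpec.QCAlg.directImage f
  have hA : FlatMod.IsFinLocFree A.toModule := FinCov.isFinLocFree_of_rank h2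
  let a' : A.presheaf.obj (op U) := a
  refine (?_ : FinCov.T A hA U (a' ^ p) = FinCov.T A hA U a' ^ p)
  refine FinCov.eq_of_cover fun x hx => ?_
  obtain ⟨W, k, hxW, hW, ⟨b⟩⟩ := FinCov.exists_basis_le A h2 hx
  refine ⟨W, k, hxW, ?_⟩
  rw [FinCov.T_spec A hA _ k hW]
  refine Eq.trans ?_ (map_pow (X.presheaf.map (homOfLE k).op).hom (FinCov.T A hA U a') p).symm
  refine Eq.trans ?_ (congrArg (· ^ p) (FinCov.T_spec A hA a' k hW).symm)
  rw [show FinCov.resA A k (a' ^ p) = FinCov.resA A k a' ^ p from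
    map_pow (A.presheaf.map (homOfLE k).op).hom a' p]
  letI := FinCov.alg A W
  show Algebra.trace Γ(X, W) (A.presheaf.obj (op W)) (FinCov.resA A k a' ^ p) =
    Algebra.trace Γ(X, W) (A.presheaf.obj (op W)) (FinCov.resA A k a') ^ p
  rcases subsingleton_or_nontrivial Γ(X, W) with hs | hs
  · exact Subsingleton.elim _ _
  · haveI : CharP Γ(X, W) p :=
      (CharP.charP_iff_prime_eq_zero Fact.out).2 (FrobSch.natCast_eq_zero_app X p W)
    refine algebra_trace_pow p (IsUnit.of_mul_eq_one (((p + 1) / 2 : ℕ) : Γ(X, W)) ?_) b _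
    rw [mul_comm, show (2 : Γ(X, W)) = ((2 : ℕ) : Γ(X, W)) from Nat.cast_ofNat.symm, ← Nat.cast_mul]
    exact half_two p hodd W

theorem trace_comm (hodd : p ≠ 2) : pushUnit p f ≫ (frobComm p f).inv ≫
    (Scheme.Modules.pushforward (FrobSch.frob X p)).map (trace f h2) =
      trace f h2 ≫ ClSub.unitToPush (FrobSch.frob X p) := by
  refine Scheme.Modules.hom_ext _ _ fun U => ?_
  ext a
  have key : ∀ b : Γ(Y, f ⁻¹ᵁ U),
      trSec f h2 U ((frobComm p f).inv.app U (b ^ p)) = trSec f h2 U b ^ p := fun b =>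
    Eq.trans (congrArg (trSec f h2 U) (frobComm_inv_app p f U (b ^ p))) (trace_pow p f h2 hodd U b)
  exact key a

omit [FrobSch.IsCharP Y p] [IsFinite f] hp in
/-- The characteristic kills every module. -/
theorem nsmul_hom_eq_zero (M : X.Modules) : (p : ℕ) • 𝟙 M = 0 := by
  refine Scheme.Modules.hom_ext _ _ fun U => ?_
  ext s
  have h1 : ∀ n : ℕ, (n • 𝟙 M).app U s = n • s := by
    intro n
    induction n with
    | zero => simp
    | succ n ih => rw [succ_nsmul, succ_nsmul, ← ih]; rfl
  refine (h1 p).trans ?_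
  rw [← Nat.cast_smul_eq_nsmul Γ(X, U) p s, FrobSch.natCast_eq_zero_app X p U, zero_smul]
  rfl

include h2 in
/-- The Frobenius cokernel is a direct summand of that of a double cover. -/
theorem exists_retract (hodd : p ≠ 2) :
    ∃ (i : cokernel (ClSub.unitToPush (FrobSch.frob X p)) ⟶ cokernel (pushUnit p f))
      (r : cokernel (pushUnit p f) ⟶ cokernel (ClSub.unitToPush (FrobSch.frob X p))), i ≫ r = 𝟙 _ := by
  let F := Scheme.Modules.pushforward (FrobSch.frob X p)
  let i := cokernel.map (ClSub.unitToPush (FrobSch.frob X p)) (pushUnit p f) (ClSub.unitToPush f)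
    (F.map (ClSub.unitToPush f) ≫ (frobComm p f).hom) (unit_comm p f).symm
  let b := cokernel.map (pushUnit p f) (ClSub.unitToPush (FrobSch.frob X p)) (trace f h2)
    ((frobComm p f).inv ≫ F.map (trace f h2)) (trace_comm p f h2 hodd)
  have hib : i ≫ b = (2 : ℕ) • 𝟙 _ := by
    rw [← cancel_epi (cokernel.π (ClSub.unitToPush (FrobSch.frob X p)))]
    simp only [i, b, cokernel.π_desc_assoc, Category.assoc, cokernel.π_desc, Iso.hom_inv_id_assoc,
      Preadditive.comp_nsmul, Category.comp_id]
    rw [← Functor.map_comp_assoc, unit_trace, Functor.map_nsmul, F.map_id, Preadditive.nsmul_comp,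
      Category.id_comp]
  refine ⟨i, ((p + 1) / 2) • b, ?_⟩
  obtain ⟨m, hm⟩ := hp.out.odd_of_ne_two hodd
  rw [Preadditive.comp_nsmul, hib, ← mul_nsmul, show 2 * ((p + 1) / 2) = p + 1 by omega, add_nsmul,
    nsmul_hom_eq_zero, zero_add, one_nsmul]

omit [FrobSch.IsCharP X p] in
/-- Pushing forward along a finite morphism preserves the cokernel. -/
theorem nonempty_cokernel_iso : Nonempty (cokernel (pushUnit p f) ≅
    (Scheme.Modules.pushforward f).obj (cokernel (ClSub.unitToPush (FrobSch.frob Y p)))) := by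
  let α := ClSub.unitToPush (FrobSch.frob Y p)
  let P := Scheme.Modules.pushforward f
  haveI hO : (Coh.structureModule Y).IsQuasicoherent := Cohom.isQuasicoherent_structureModule Y
  haveI : IsAffineHom (FrobSch.frob Y p) := isAffineHom_of_isInducing _
    Topology.IsInducing.id (by convert isClosed_univ using 1; exact Set.range_id)
  haveI : ((Scheme.Modules.pushforward (FrobSch.frob Y p)).obj (Coh.structureModule Y)).IsQuasicoherent :=
    QCoh.isQuasicoherent_pushforward _ _
  haveI : (cokernel α).IsQuasicoherent := QCoh.isQuasicoherent_cokernel α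
  let e := kernel.lift (cokernel.π α) α (cokernel.condition α)
  haveI : (kernel (cokernel.π α)).IsQuasicoherent := QCoh.isQuasicoherent_kernel _
  haveI : (kernel e).IsQuasicoherent := QCoh.isQuasicoherent_kernel _
  haveI : Epi e := (ShortComplex.exact_iff_epi_kernel_lift (ShortComplex.mk α (cokernel.π α) (cokernel.condition α))).1
    (ShortComplex.exact_cokernel α)
  have h₁ : (ShortComplex.mk (kernel.ι (cokernel.π α)) (cokernel.π α) (kernel.condition _)).ShortExact :=
    { exact := ShortComplex.exact_kernel _ }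
  have h₂ : (ShortComplex.mk (kernel.ι e) e (kernel.condition _)).ShortExact :=
    { exact := ShortComplex.exact_kernel _ }
  have hF₁ := Cohom.pushforward_map_shortExact f h₁ (Cohom.acyclicOn_of_isAffineHom f _)
  have hF₂ := Cohom.pushforward_map_shortExact f h₂ (Cohom.acyclicOn_of_isAffineHom f _)
  haveI := hF₁.epi_g
  haveI : Epi (P.map e) := hF₂.epi_g
  have hc := isCokernelEpiComp hF₁.gIsCokernel (P.map e) (h := P.map α)
    (((P.map_comp e (kernel.ι (cokernel.π α))).symm.trans (congrArg P.map (kernel.lift_ι _ _ _))).symm)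
  exact ⟨IsColimit.coconePointUniqueUpToIso (cokernelIsCokernel (P.map α)) hc⟩

theorem subsingleton_HH_frobQuot (hodd : p ≠ 2)
    (h2 : FlatMod.IsFinLocFreeOfRank 2 ((Scheme.Modules.pushforward f).obj (Coh.structureModule Y)))
    (hY : ∀ i : ℕ, Subsingleton (Coh.HH Y (cokernel (ClSub.unitToPush (FrobSch.frob Y p))) i)) (n : ℕ) :
    Subsingleton (Coh.HH X (cokernel (ClSub.unitToPush (FrobSch.frob X p))) n) := by
  obtain ⟨i, r, hir⟩ := exists_retract p f h2 hodd
  obtain ⟨e⟩ := nonempty_cokernel_iso p f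
  haveI : (Coh.structureModule Y).IsQuasicoherent := Cohom.isQuasicoherent_structureModule Y
  haveI : IsAffineHom (FrobSch.frob Y p) := isAffineHom_of_isInducing _
    Topology.IsInducing.id (by convert isClosed_univ using 1; exact Set.range_id)
  haveI : ((Scheme.Modules.pushforward (FrobSch.frob Y p)).obj (Coh.structureModule Y)).IsQuasicoherent :=
    QCoh.isQuasicoherent_pushforward _ _
  haveI : (cokernel (ClSub.unitToPush (FrobSch.frob Y p))).IsQuasicoherent := QCoh.isQuasicoherent_cokernel _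
  obtain ⟨φ⟩ := Cohom.nonempty_HH_equiv_pushforward f (cokernel (ClSub.unitToPush (FrobSch.frob Y p))) n
  haveI := hY n
  haveI : Subsingleton (Coh.HH X ((Scheme.Modules.pushforward f).obj
    (cokernel (ClSub.unitToPush (FrobSch.frob Y p)))) n) := φ.symm.toEquiv.subsingleton
  refine subsingleton_of_forall_eq 0 fun x => ?_
  let T := SheafOfModules.toSheaf X.ringCatSheaf
  calc x = Sheaf.H.map (T.map ((i ≫ e.hom) ≫ e.inv ≫ r)) n x := by
        rw [Category.assoc, e.hom_inv_id_assoc, hir, T.map_id, Sheaf.H.map_id_apply]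
    _ = Sheaf.H.map (T.map (e.inv ≫ r)) n (Sheaf.H.map (T.map (i ≫ e.hom)) n x) := by
        rw [T.map_comp, Sheaf.H.map_comp_apply]
    _ = 0 := by
        rw [Subsingleton.elim (Sheaf.H.map (T.map (i ≫ e.hom)) n x) 0, map_zero]

end GrothLib.FrobSplit
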