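import Groth.Agent.Lib.Ample.CocTensor
import Groth.Agent.Lib.Euler.Basic
import Groth.Agent.Lib.Euler.Coh
import Groth.Prelude.Def_Frob
import Mathlib.FieldTheory.Perfect

/-!
# Cohomology of line bundles on Frobenius split schemes
-/

universe u

set_option linter.all false
set_option backward.isDefEq.respectTransparency false

open CategoryTheory CategoryTheory.Limits AlgebraicGeometry Opposite TopologicalSpace
open GrothLib.Ample (res res_res res_self Cocycle)

noncomputable section

namespace GrothLib.FrobSplit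

variable {X : Scheme.{u}} (p : ℕ) [hp : Fact p.Prime] [FrobSch.IsCharP X p] (c : Cocycle X) (n : ℕ)

/-- The families of `p`-th powers. -/
def powSect (V : X.Opens) : c.sect n V →+ c.sect (n * p) V where
  toFun a := ⟨fun i => a.1 i ^ p, fun i j W hi hj => by
    simp only [map_pow, c.sect_spec a i j hi hj, mul_pow, pow_mul]⟩
  map_zero' := c.sect_ext fun i => zero_pow hp.out.ne_zero
  map_add' a b := c.sect_ext fun i =>
    map_add (FrobSch.powHom p Γ(X, V ⊓ c.D i) (FrobSch.natCast_eq_zero_app X p _)) (a.1 i) (b.1 i)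

theorem powSect_apply (V : X.Opens) (a : c.sect n V) (i : c.ι) : (powSect p c n V a).1 i = a.1 i ^ p := rfl

/-- The map to the `p`-th power. -/
def powMap : Coh.toAb (c.twist n) ⟶ Coh.toAb (c.twist (n * p)) :=
  ⟨{ app := fun U => AddCommGrpCat.ofHom (powSect p c n U.unop)
     naturality := fun U V g => by
       ext (a : c.sect n U.unop)
       refine c.sect_ext fun i => ?_
       exact (map_pow (res (inf_le_inf_right (c.D i) (leOfHom g.unop))) (a.1 i) p).symm }⟩

variable (s : Coh.toAb (Coh.structureModule X) ⟶ Coh.toAb (Coh.structureModule X))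
  (hlin : ∀ (U : X.Opens) (a b : Γ(X, U)),
    s.hom.app (op U) (a ^ p * b) = a * @id Γ(X, U) (s.hom.app (op U) b))

/-- The splitting on functions. -/
def sU (U : X.Opens) : Γ(X, U) →+ Γ(X, U) := (s.hom.app (op U)).hom

omit [FrobSch.IsCharP X p] in
theorem sU_res {U V : X.Opens} (h : V ≤ U) (a : Γ(X, U)) : res h (sU s U a) = sU s V (res h a) :=
  (congr($(s.hom.naturality (homOfLE h).op) a)).symm

include hlin in
theorem sU_pow_mul (U : X.Opens) (a b : Γ(X, U)) : sU s U (a ^ p * b) = a * sU s U b := hlin U a b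

/-- The map back. -/
def splitSect (V : X.Opens) : c.sect (n * p) V →+ c.sect n V where
  toFun a := ⟨fun i => sU s _ (a.1 i), fun i j W hi hj => by
    rw [sU_res, sU_res, c.sect_spec a i j hi hj, pow_mul, sU_pow_mul p s hlin]⟩
  map_zero' := c.sect_ext fun i => map_zero (sU s (V ⊓ c.D i))
  map_add' a b := c.sect_ext fun i => map_add (sU s (V ⊓ c.D i)) (a.1 i) (b.1 i)

/-- The retraction of the power map. -/
def splitMap : Coh.toAb (c.twist (n * p)) ⟶ Coh.toAb (c.twist n) :=
  ⟨{ app := fun U => AddCommGrpCat.ofHom (splitSect p c n s hlin U.unop)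
     naturality := fun U V g => by
       ext (a : c.sect (n * p) U.unop)
       refine c.sect_ext fun i => ?_
       exact (sU_res s (inf_le_inf_right (c.D i) (leOfHom g.unop)) (a.1 i)).symm }⟩

theorem powMap_splitMap (φ : Coh.toAb (Coh.structureModule X) ⟶ Coh.toAb (Coh.structureModule X))
    (hφ : ∀ (U : X.Opens) (t : Γ(X, U)), φ.hom.app (op U) t = t ^ p) (hs : φ ≫ s = 𝟙 _) :
    powMap p c n ≫ splitMap p c n s hlin = 𝟙 _ := by
  ext U (a : c.sect n U.unop)
  refine c.sect_ext fun i => ?_
  show sU s _ (a.1 i ^ p) = a.1 i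
  have h := congr(($hs).hom.app (op (U.unop ⊓ c.D i)) (a.1 i))
  exact (congrArg (sU s _) (hφ _ (a.1 i)).symm).trans h

theorem powMap_smul (r : Coh.Γtop X) :
    Coh.smulAb (c.twist n) r ≫ powMap p c n = powMap p c n ≫ Coh.smulAb (c.twist (n * p)) (r ^ p) := by
  ext U (a : c.sect n U.unop)
  refine c.sect_ext fun i => ?_
  show ((res inf_le_left (Coh.resTop X U r)) * a.1 i) ^ p = res inf_le_left (Coh.resTop X U (r ^ p)) * a.1 i ^ p
  rw [map_pow, mul_pow]
  exact congrArg (· * a.1 i ^ p) (map_pow (res inf_le_left) (Coh.resTop X U r) p).symm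

variable (k : Type u) [Field k] [CharP k p] [PerfectRing k p] [X.Over (Spec (CommRingCat.of k))]
  [IsProper (X ↘ Spec (CommRingCat.of k))]

omit [CharP k p] [PerfectRing k p] [IsProper (X ↘ Spec (CommRingCat.of k))] in
theorem smul_eq (M : X.Modules) (j : ℕ) (a : k) (x : Coh.HH X M j) :
    a • x = Sheaf.H.map (Coh.smulAb M (Coh.toGlobal (X ↘ Spec (CommRingCat.of k)) a)) j x := by
  rfl

/-- A Frobenius splitting makes the cohomology of a twist inject into that of its `p`-th power. -/
theorem finrank_twist_le (φ : Coh.toAb (Coh.structureModule X) ⟶ Coh.toAb (Coh.structureModule X))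
    (hφ : ∀ (U : X.Opens) (t : Γ(X, U)), φ.hom.app (op U) t = t ^ p) (hs : φ ≫ s = 𝟙 _)
    (hlin : ∀ (U : X.Opens) (a b : Γ(X, U)),
      s.hom.app (op U) (a ^ p * b) = a * @id Γ(X, U) (s.hom.app (op U) b)) (i : ℕ) :
    Module.finrank k (Coh.HH X (c.twist n) i) ≤ Module.finrank k (Coh.HH X (c.twist (n * p)) i) := by
  haveI := Euler.isNoetherian_of_proper (X := X) k
  haveI : FiniteDimensional k (Coh.HH X (c.twist n) i) :=
    Euler.finiteDimensional_HH k (Euler.isCoh_of_isInvertible (c.isInvertible_twist n)) i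
  haveI : FiniteDimensional k (Coh.HH X (c.twist (n * p)) i) :=
    Euler.finiteDimensional_HH k (Euler.isCoh_of_isInvertible (c.isInvertible_twist (n * p))) i
  let g : Coh.HH X (c.twist n) i →+ Coh.HH X (c.twist (n * p)) i := Sheaf.H.map (powMap p c n) i
  have hinj : Function.Injective g := by
    intro x y h
    have h' := congrArg (Sheaf.H.map (splitMap p c n s hlin) i) h
    simp only [g, ← Sheaf.H.map_comp_apply, powMap_splitMap p c n s hlin φ hφ hs, Sheaf.H.map_id_apply] at h'
    exact h'
  have hsl : ∀ (a : k) (x : Coh.HH X (c.twist n) i), g (a • x) = a ^ p • g x := by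
    intro a x
    rw [smul_eq k, smul_eq k]
    simp only [g]
    rw [← Sheaf.H.map_comp_apply, ← Sheaf.H.map_comp_apply, powMap_smul, map_pow]
  let b := Module.finBasis k (Coh.HH X (c.twist n) i)
  have hli : LinearIndependent k (g ∘ b) := by
    rw [Fintype.linearIndependent_iff]
    intro w hw j
    choose v hv using fun j => (PerfectRing.bijective_frobenius (R := k) (p := p)).2 (w j)
    have h0 : g (∑ j, v j • b j) = g 0 := by
      rw [map_sum, map_zero, ← hw]
      refine Finset.sum_congr rfl fun j _ => ?_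
      rw [hsl, Function.comp_apply, ← hv j]
    have := Fintype.linearIndependent_iff.1 b.linearIndependent v (hinj h0) j
    rw [← hv j, this]
    exact zero_pow hp.out.ne_zero
  simpa using hli.fintype_card_le_finrank

end GrothLib.FrobSplit
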