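import Mathlib.LinearAlgebra.Matrix.Adjugate
import Mathlib.LinearAlgebra.Matrix.Trace
import Mathlib.RingTheory.Trace.Basic
import Mathlib.Algebra.CharP.Lemmas

/-!
# Traces of `p`-th powers in rank two, odd characteristic
-/

universe u

namespace GrothLib.FrobSplit

/-- In odd prime characteristic the trace of a `2 × 2` matrix commutes with `p`-th powers. -/
theorem trace_pow_char {R : Type u} [CommRing R] (p : ℕ) [Fact p.Prime] [CharP R p]
    (h2 : IsUnit (2 : R)) (M : Matrix (Fin 2) (Fin 2) R) : (M ^ p).trace = M.trace ^ p := by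
  have hadj : ∀ N : Matrix (Fin 2) (Fin 2) R, N + N.adjugate = N.trace • 1 := by
    intro N
    ext i j
    fin_cases i <;> fin_cases j <;> simp [Matrix.adjugate_fin_two, Matrix.trace_fin_two, add_comm]
  have htr : ∀ N : Matrix (Fin 2) (Fin 2) R, N.adjugate.trace = N.trace := by
    intro N
    simp [Matrix.adjugate_fin_two, Matrix.trace_fin_two, add_comm]
  have hcomm : Commute M M.adjugate := by
    show M * M.adjugate = M.adjugate * M
    rw [Matrix.mul_adjugate, Matrix.adjugate_mul]
  haveI : CharP (Matrix (Fin 2) (Fin 2) R) p :=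
    charP_of_injective_ringHom (f := Matrix.scalar (Fin 2)) (fun a b h => Matrix.scalar_inj.mp h) p
  have key : (M + M.adjugate) ^ p = M ^ p + M.adjugate ^ p :=
    add_pow_char_of_commute p hcomm
  rw [hadj M, smul_pow, one_pow, ← Matrix.adjugate_pow] at key
  have h := congrArg Matrix.trace key
  rw [Matrix.trace_smul, Matrix.trace_one, Matrix.trace_add, htr, Fintype.card_fin, smul_eq_mul] at h
  refine h2.mul_left_cancel ?_
  rw [two_mul (M ^ p).trace, ← h, Nat.cast_ofNat, mul_comm]

/-- In a free algebra of rank two in odd characteristic, the trace commutes with `p`-th powers. -/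
theorem algebra_trace_pow {R S : Type u} [CommRing R] [CommRing S] [Algebra R S] (p : ℕ) [Fact p.Prime]
    [CharP R p] (h2 : IsUnit (2 : R)) (b : Module.Basis (Fin 2) R S) (a : S) :
    Algebra.trace R S (a ^ p) = Algebra.trace R S a ^ p := by
  rw [Algebra.trace_eq_matrix_trace b, Algebra.trace_eq_matrix_trace b, map_pow]
  exact trace_pow_char p h2 _

end GrothLib.FrobSplit
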